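import Cfsg.Agent.KFacts.Co2.Mono
import Cfsg.Agent.Co2Type.Co2Gen
import Cfsg.Agent.KFacts.SheetInnerT
set_option linter.all false

/-!
# (T1') for `Spor.Co2`

`z = ge mz` is the central involution of the Sylow 2-subgroup `T`.

* `t1` : an automorphism of `Spor.Co2` that is trivial on the centraliser of `z` is `1` or the conjugation by `z`;
* `exists_conj` : a conjugate of `z`, different from `z`, that commutes with `z`;
* `gen_of_large` : the centraliser of `z` and an element that maps `z` to this conjugate generate `Spor.Co2`.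
-/

set_option autoImplicit false
set_option linter.dupNamespace false

namespace Cfsg.Agent.KFacts.Co2.T1

open Cfsg Cfsg.Agent.SporadicA.GolayBase Cfsg.Agent.SporadicA.GolayPerm
open Cfsg.Agent.SporadicStructure.M24El Cfsg.Agent.SporadicA.Co0Mono
open Cfsg.Agent.Co2Type.Mono Cfsg.Agent.Co2Type.TGroup Cfsg.Agent.Co2Type.TData Cfsg.Agent.Co2Type.FactsD
open Cfsg.Agent.SporadicStructure.Co0Base (e8 e8_coe)
open Cfsg.Agent.Co2Type.Co2Rels Cfsg.Agent.Co2Type.MatsData
open Cfsg.Agent.Co2Type.Co2El (good_el Ss_eq)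
open Cfsg.Agent.KFacts.Co2.Mono
open Cfsg.Agent.LeechMat.Elements (sdig vec vec_apply allTo allTo_iff Z0)
open Cfsg.Agent.LeechMat.Words (prodW c8 c8_lt vec_c8 sqNorm_e8 run_sound)
open Cfsg.Agent.LeechMat.Code (pos pos_lt)

/-! ### words that are sign changes -/

/-- code of the image of `8 e_k` under the sign change `m` -/
def cm (m k : ℕ) : ℕ := cond (m.testBit k) (Z0 - (8 <<< (5 * k))) (Z0 + (8 <<< (5 * k)))

theorem pos_eq_idx (p : GolayPt) : pos p = idx p := by cases p <;> rfl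

theorem word_diag {w : List ℕ} (hw : ∀ i ∈ w, i < 17) {m : ℕ} (hm : isCode m = true)
    (h : allTo (fun k => Cfsg.Agent.LeechMat.Words.run Ms Ss w (c8 k) fun c => Nat.beq c (cm m k)) 24 = true)
    (hv : ∀ k < 24, ∀ j < 24, sdig (cm m k) j = if j = k then (if m.testBit k then -8 else 8) else 0) :
    prodW Cfsg.Agent.Co2Type.Co2El.el w = mo m idP := by
  rw [allTo_iff] at h
  apply Cfsg.Agent.SporadicStructure.Co0Base.co0_ext_e8
  intro i
  obtain ⟨c, hc, hk, hx⟩ := run_sound (Ms := Ms) (Ss := Ss) (G := Cfsg.Agent.Co2Type.Co2El.el) w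
    (fun j hj => (good_el (hw j hj)).1) (fun j hj => Ss_eq j (hw j hj)) _ (c8_lt i) _
    (h _ (pos_lt i))
  have h1 := hx (e8 i) (vec_c8 i).symm (sqNorm_e8 i)
  apply Subtype.ext
  rw [h1, Nat.eq_of_beq_eq_true hk]
  funext j
  have e1 : ((1 : M24) : Equiv.Perm GolayPt) i = i := rfl
  rw [vec_apply, hv _ (pos_lt i) _ (pos_lt j), mo_smul_e8 hm, el_idP, pos_eq_idx, pos_eq_idx, e1]
  by_cases hj : j = i
  · subst hj
    rw [if_pos rfl, if_pos rfl]
  · rw [if_neg (fun e => hj (idx_injective e)), if_neg (fun e => hj e.symm)]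

/-- mask of `x 6` -/
def mi : ℕ := 8385418
/-- mask of `w` -/
def mw : ℕ := 7728758
/-- interchanges `mi` and `mw` -/
def nQ : ℕ := 967716047839985747328111522102972096
/-- fixes `mi` and `mw` -/
def aQ : ℕ := 978816739510468050311256687730267616
/-- maps `mi` to `mz` -/
def rQ : ℕ := 974047867617931878614266185535213216

theorem ii : inE mi = true := by decide +kernel
theorem iw : inE mw = true := by decide +kernel
theorem on : okP nQ = true := by decide +kernel
theorem oa : okP aQ = true := by decide +kernel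
theorem or' : okP rQ = true := by decide +kernel
theorem ln : nQ < 2 ^ 120 := by decide +kernel
theorem la : aQ < 2 ^ 120 := by decide +kernel
theorem lr : rQ < 2 ^ 120 := by decide +kernel
theorem nmi : pimg nQ mi = mw := by decide +kernel
theorem nmw : pimg nQ mw = mi := by decide +kernel
theorem ami : pimg aQ mi = mi := by decide +kernel
theorem amw : pimg aQ mw = mw := by decide +kernel
theorem rmi : pimg rQ mi = mz := by decide +kernel

theorem chkFix : allSp B10 (fun m => cond (Nat.beq (pimg aQ m) m)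
    (Nat.beq m 0 || (Nat.beq m mi || (Nat.beq m mw || Nat.beq m (Nat.xor mi mw)))) true) 0 = true := by
  decide +kernel

theorem x6_eq : x 6 = ge mi := by
  apply toCo0_injective
  rw [ge_def, toCo0_x, toCo0_mo2 ii okP_idP]
  show prodW Cfsg.Agent.Co2Type.Co2El.el [15] = _
  exact word_diag (by decide) (isCode_of_inE ii) (by decide +kernel) (by decide +kernel)

theorem prodW_append (u v : List ℕ) : prodW Cfsg.Agent.Co2Type.Co2El.el (u ++ v) = prodW Cfsg.Agent.Co2Type.Co2El.el u * prodW Cfsg.Agent.Co2Type.Co2El.el v := by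
  induction u with
  | nil => rw [List.nil_append]; exact (one_mul _).symm
  | cons a u ih =>
    show Cfsg.Agent.Co2Type.Co2El.el a * prodW Cfsg.Agent.Co2Type.Co2El.el (u ++ v) =
      Cfsg.Agent.Co2Type.Co2El.el a * prodW Cfsg.Agent.Co2Type.Co2El.el u * prodW Cfsg.Agent.Co2Type.Co2El.el v
    rw [ih, mul_assoc]

theorem w_eq : x 2 * x 4 * x 1 * x 2 * x 3 * (x 2 * x 1 * x 4 * x 2) = ge mw := by
  apply toCo0_injective
  rw [ge_def, toCo0_mo2 iw okP_idP]
  simp only [map_mul]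
  have h : prodW Cfsg.Agent.Co2Type.Co2El.el ([10, 2] ++ [3] ++ [1] ++ [10, 2] ++ [6] ++ ([10, 2] ++ [1] ++ [3] ++ [10, 2])) = mo mw idP :=
    word_diag (by decide) (isCode_of_inE iw) (by decide +kernel) (by decide +kernel)
  rw [← h]
  simp only [prodW_append, toCo0_x]
  rfl

/-- the element interchanging `ge mi` and `ge mw` -/
noncomputable def n : Spor.Co2 := mo2 0 nQ

theorem n_i : n * ge mi * n⁻¹ = ge mw := conj_ge on ln ii nmi
theorem n_w : n * ge mw * n⁻¹ = ge mi := conj_ge on ln iw nmw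

theorem comm_iw : ge mw * ge mi = ge mi * ge mw := by
  rw [ge_mul iw ii, ge_mul ii iw, Nat.xor_comm]

theorem gen : Subgroup.closure ({c : Spor.Co2 | c * ge mi = ge mi * c} ∪ {n}) = ⊤ := by
  set H := Subgroup.closure ({c : Spor.Co2 | c * ge mi = ge mi * c} ∪ {n}) with hH
  have hC : ∀ c : Spor.Co2, c * ge mi = ge mi * c → c ∈ H := fun c hc =>
    Subgroup.subset_closure (Or.inl hc)
  have hn : n ∈ H := Subgroup.subset_closure (Or.inr rfl)
  have hp := pg
  rw [eq_top_iff, ← Cfsg.Agent.Co2Type.Co2Gen.gen, Subgroup.closure_le]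
  have e0 : x 0 ∈ H := hC _ (by rw [← x6_eq]; exact hp.ai)
  have e1 : x 1 ∈ H := hC _ (by rw [← x6_eq]; exact hp.ci)
  have e2 : x 2 ∈ H := hC _ (by rw [← x6_eq]; exact hp.di)
  have e3 : x 3 ∈ H := hC _ (by rw [← x6_eq]; exact hp.bi)
  have e4 : x 4 ∈ H := hC _ (by rw [← x6_eq]; exact hp.ei)
  have e5 : x 5 ∈ H := hC _ (by rw [← x6_eq]; exact hp.fi)
  have e6 : x 6 ∈ H := hC _ (by rw [← x6_eq])
  have e7 : x 7 ∈ H := hC _ (by rw [← x6_eq]; exact hp.gi)
  have e8 : x 8 ∈ H := by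
    -- `c h c⁻¹` commutes with `w`
    have hc : x 2 * x 4 * x 1 * x 2 ∈ H := H.mul_mem (H.mul_mem (H.mul_mem e2 e4) e1) e2
    have hi : (x 2 * x 4 * x 1 * x 2)⁻¹ = x 2 * x 1 * x 4 * x 2 := by
      apply inv_eq_of_mul_eq_one_right
      calc x 2 * x 4 * x 1 * x 2 * (x 2 * x 1 * x 4 * x 2)
          = x 2 * x 4 * x 1 * (x 2 * x 2) * x 1 * x 4 * x 2 := by group
        _ = x 2 * x 4 * (x 1 * x 1) * x 4 * x 2 := by rw [hp.dd]; group
        _ = x 2 * (x 4 * x 4) * x 2 := by rw [hp.cc]; group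
        _ = 1 := by rw [hp.ee, mul_one, hp.dd]
    have hw := w_eq
    rw [← hi] at hw
    have h1 : n⁻¹ * ((x 2 * x 4 * x 1 * x 2) * x 8 * (x 2 * x 4 * x 1 * x 2)⁻¹) * n ∈ H := by
      apply hC
      have e : ge mi = n⁻¹ * ge mw * n := by rw [← n_i]; group
      rw [e, ← hw]
      have hb := hp.bh
      generalize x 2 * x 4 * x 1 * x 2 = c
      calc n⁻¹ * (c * x 8 * c⁻¹) * n * (n⁻¹ * (c * x 3 * c⁻¹) * n) = n⁻¹ * c * (x 8 * x 3) * c⁻¹ * n := by group
        _ = n⁻¹ * c * (x 3 * x 8) * c⁻¹ * n := by rw [hb]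
        _ = _ := by group
    have h2 := H.mul_mem (H.mul_mem hn h1) (H.inv_mem hn)
    have h3 : n * (n⁻¹ * ((x 2 * x 4 * x 1 * x 2) * x 8 * (x 2 * x 4 * x 1 * x 2)⁻¹) * n) * n⁻¹ =
        (x 2 * x 4 * x 1 * x 2) * x 8 * (x 2 * x 4 * x 1 * x 2)⁻¹ := by group
    rw [h3] at h2
    have h4 := H.mul_mem (H.mul_mem (H.inv_mem hc) h2) hc
    have h5 : (x 2 * x 4 * x 1 * x 2)⁻¹ * ((x 2 * x 4 * x 1 * x 2) * x 8 * (x 2 * x 4 * x 1 * x 2)⁻¹) *
        (x 2 * x 4 * x 1 * x 2) = x 8 := by group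
    rwa [h5] at h4
  intro y hy
  simp only [Set.mem_insert_iff, Set.mem_singleton_iff] at hy
  rcases hy with rfl | rfl | rfl | rfl | rfl | rfl | rfl | rfl | rfl <;> assumption

theorem cent (p : Spor.Co2) (h1 : p * ge mi = ge mi * p) (h2 : p * ge mw = ge mw * p)
    (h3 : ∀ d : Spor.Co2, d * ge mi = ge mi * d → d * ge mw = ge mw * d → p * d = d * p) :
    p = 1 ∨ p = ge mi ∨ p = ge mw ∨ p = ge mi * ge mw := by
  obtain ⟨m, hm, rfl⟩ := exists_ge (p := p) (fun m hm => h3 _ (by rw [ge_mul hm ii, ge_mul ii hm, Nat.xor_comm])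
    (by rw [ge_mul hm iw, ge_mul iw hm, Nat.xor_comm]))
  have hfix : pimg aQ m = m := by
    have c1 : mo2 0 aQ * ge mi = ge mi * mo2 0 aQ := by
      rw [ge_def, mo2_conj_E inE_zero ii oa la, ami]
    have c2 : mo2 0 aQ * ge mw = ge mw * mo2 0 aQ := by
      rw [ge_def, mo2_conj_E inE_zero iw oa la, amw]
    have h4 := h3 _ c1 c2
    rw [ge_def, mo2_conj_E inE_zero hm oa la] at h4
    have h5 := mul_right_cancel h4
    exact (mo2_inj (inE_pimg oa hm) hm okP_idP okP_idP (by decide +kernel) (by decide +kernel) h5.symm).1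
  have h6 := allSp_spec chkFix m (sp_B10 hm)
  rw [Nat.zero_xor, hfix, Nat.beq_refl, cond_true] at h6
  simp only [Bool.or_eq_true, Nat.beq_eq] at h6
  rcases h6 with h | h | h | h
  · left; rw [h, ge_zero]
  · right; left; rw [h]
  · right; right; left; rw [h]
  · right; right; right
    rw [ge_mul ii iw, h]
    rfl

/-- (T1') for `ge mi` -/
theorem t1i (β : MulAut Spor.Co2) (hβ : ∀ c : Spor.Co2, c * ge mi = ge mi * c → β c = c) :
    β = 1 ∨ β = MulAut.conj (ge mi) :=
  SheetInnerT.t1_of_swap (w := ge mw) (n := n) (ge_sq ii)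
    (fun h => absurd (mo2_inj ii iw okP_idP okP_idP (by decide +kernel) (by decide +kernel) h).1 (by decide))
    comm_iw n_i n_w cent gen β hβ

theorem r_i : mo2 0 rQ * ge mi * (mo2 0 rQ)⁻¹ = ge mz := conj_ge or' lr ii rmi

/-- transport of (T1') -/
theorem t1_conj {K : Type*} [Group K] {z z' r : K} (h : r * z * r⁻¹ = z')
    (H : ∀ β : MulAut K, (∀ c : K, c * z = z * c → β c = c) → β = 1 ∨ β = MulAut.conj z)
    (β : MulAut K) (hβ : ∀ c : K, c * z' = z' * c → β c = c) : β = 1 ∨ β = MulAut.conj z' := by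
  have h1 : ∀ c : K, c * z = z * c → (MulAut.conj r⁻¹ * β * MulAut.conj r) c = c := by
    intro c hc
    have h2 : (r * c * r⁻¹) * z' = z' * (r * c * r⁻¹) := by
      rw [← h]
      calc r * c * r⁻¹ * (r * z * r⁻¹) = r * (c * z) * r⁻¹ := by group
        _ = r * (z * c) * r⁻¹ := by rw [hc]
        _ = _ := by group
    have h3 := hβ _ h2
    show r⁻¹ * β (r * c * r⁻¹) * r⁻¹⁻¹ = c
    rw [h3]; group
  rcases H _ h1 with h2 | h2
  · left
    have : β = (MulAut.conj r) * (MulAut.conj r⁻¹ * β * MulAut.conj r) * (MulAut.conj r)⁻¹ := by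
      rw [map_inv]; group
    rw [this, h2, mul_one, mul_inv_cancel]
  · right
    have : β = (MulAut.conj r) * (MulAut.conj r⁻¹ * β * MulAut.conj r) * (MulAut.conj r)⁻¹ := by
      rw [map_inv]; group
    rw [this, h2, ← map_inv, ← map_mul, ← map_mul, h]

/-- **(T1')**: an automorphism of `Spor.Co2` that is trivial on the centraliser of `z = ge mz` is `1` or the
conjugation by `z`. -/
theorem t1 (β : MulAut Spor.Co2) (hβ : ∀ c : Spor.Co2, c * ge mz = ge mz * c → β c = c) :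
    β = 1 ∨ β = MulAut.conj (ge mz) := t1_conj r_i t1i β hβ

/-- a conjugate of `z`, different from `z`, that commutes with `z` -/
theorem exists_conj : ∃ k : Spor.Co2, (k * ge mz * k⁻¹) * ge mz = ge mz * (k * ge mz * k⁻¹) ∧
    k * ge mz * k⁻¹ ≠ ge mz := by
  set r := mo2 0 rQ with hr
  have h1 : r * ge mi * r⁻¹ = ge mz := r_i
  refine ⟨r * n * r⁻¹, ?_, ?_⟩
  · rw [← h1]
    calc r * n * r⁻¹ * (r * ge mi * r⁻¹) * (r * n * r⁻¹)⁻¹ * (r * ge mi * r⁻¹)
        = r * ((n * ge mi * n⁻¹) * ge mi) * r⁻¹ := by group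
      _ = r * (ge mi * (n * ge mi * n⁻¹)) * r⁻¹ := by rw [n_i, comm_iw]
      _ = _ := by group
  · intro h
    rw [← h1] at h
    have h2 : n * ge mi * n⁻¹ = ge mi := by
      calc n * ge mi * n⁻¹ = r⁻¹ * (r * n * r⁻¹ * (r * ge mi * r⁻¹) * (r * n * r⁻¹)⁻¹) * r := by group
        _ = r⁻¹ * (r * ge mi * r⁻¹) * r := by rw [h]
        _ = ge mi := by group
    rw [n_i] at h2
    exact absurd (mo2_inj iw ii okP_idP okP_idP (by decide +kernel) (by decide +kernel) h2).1 (by decide)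

end Cfsg.Agent.KFacts.Co2.T1
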