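import Cfsg.Agent.KFacts.CoTwo.Base
import Cfsg.Agent.Co2Type.FactsD
set_option linter.all false

/-!
# The centraliser of `E` in `Spor.Co2`

`exists_ge` : an element of `Spor.Co2` that commutes with `E = {ge m}` is in `E`.
-/

set_option autoImplicit false
set_option linter.dupNamespace false

namespace Cfsg.Agent.KFacts.Co2.Mono

open Cfsg Cfsg.Agent.SporadicA.GolayBase Cfsg.Agent.SporadicA.GolayPerm
open Cfsg.Agent.SporadicStructure.M24El Cfsg.Agent.SporadicA.Co0Mono
open Cfsg.Agent.Co2Type.Mono Cfsg.Agent.Co2Type.TGroup Cfsg.Agent.Co2Type.TData Cfsg.Agent.Co2Type.FactsD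
open Cfsg.Agent.SporadicStructure.Co0Base (e8 e8_coe)
open Cfsg.Agent.KFacts.CoTwo.Base Cfsg.Agent.KFacts.CoTwo.Data

/-- image of `8 e_∞` -/
noncomputable def im (g : Spor.Co2) : leechLattice := toCo0 g • e8 none

theorem norm_im (g : Spor.Co2) : sqNorm (im g : GolayPt → ℤ) = 64 := by
  unfold im
  rw [Cfsg.Agent.SporadicA.Co0Mono.sqNorm_smul, e8_coe]
  decide +kernel

/-- the sign of the coordinate `i` under `ge m` -/
def sgm (m : ℕ) (i : GolayPt) : ℤ := if m.testBit (idx i) then -1 else 1

theorem sgm_neg {m : ℕ} {i : GolayPt} (h : m.testBit (idx i) = true) : sgm m i = -1 := if_pos h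

theorem sgm_pos {m : ℕ} {i : GolayPt} (h : m.testBit (idx i) = false) : sgm m i = 1 :=
  if_neg (by rw [h]; decide)

theorem ge_def (m : ℕ) : ge m = mo2 m idP := rfl

theorem ge_smul {m : ℕ} (hm : inE m = true) (x : leechLattice) (i : GolayPt) :
    ((toCo0 (ge m) • x : leechLattice) : GolayPt → ℤ) i = sgm m i * (x : GolayPt → ℤ) i := by
  rw [ge_def, toCo0_mo2 hm okP_idP]
  unfold mo
  rw [el_idP, map_one, mul_one, signCo0_smul, signMap_apply, coe_cd (isCode_of_inE hm), word_apply]
  unfold sgm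
  split_ifs
  · rw [sgn_one]
  · rw [sgn_zero]

theorem chkSep0 : ((List.range 24).all fun k => Nat.beq k 0 || (Nat.beq k 23 || (B10.any fun m => Nat.testBit m k))) =
    true := by
  decide +kernel

theorem chkSep (i : GolayPt) : idx i = 0 ∨ idx i = 23 ∨ (B10.any fun m => Nat.testBit m (idx i)) = true := by
  have h := List.all_eq_true.1 chkSep0 (idx i) (List.mem_range.2 (idx_lt i))
  rcases (Bool.or_eq_true _ _).mp h with h | h
  · exact Or.inl (Nat.eq_of_beq_eq_true h)
  · rcases (Bool.or_eq_true _ _).mp h with h | h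
    · exact Or.inr (Or.inl (Nat.eq_of_beq_eq_true h))
    · exact Or.inr (Or.inr h)

theorem chkB : ∀ m ∈ B10, inE m = true := by decide +kernel

theorem ge_smul_none {m : ℕ} (hm : inE m = true) : toCo0 (ge m) • e8 none = e8 none := by
  apply Subtype.ext
  funext k
  rw [ge_smul hm, e8_coe]
  by_cases hk : k = none
  · subst hk
    rw [sgm_pos (by rw [idx_none]; exact (inE_iff.1 hm).2.2), one_mul]
  · rw [Pi.single_eq_of_ne hk, mul_zero]

theorem im_def (g : Spor.Co2) : im g = toCo0 g • e8 none := rfl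

theorem im_fix {p : Spor.Co2} {m : ℕ} (hm : inE m = true) (h : p * ge m = ge m * p) :
    toCo0 (ge m) • im p = im p := by
  rw [im_def, ← mul_smul, ← map_mul, ← h, map_mul, mul_smul, ge_smul_none hm]

theorem im_zero' {x : leechLattice} (h : ∀ m, inE m = true → toCo0 (ge m) • x = x) {i : GolayPt}
    (h0 : i ≠ none) (h1 : i ≠ some 0) : (x : GolayPt → ℤ) i = 0 := by
  have hi : (B10.any fun m => Nat.testBit m (idx i)) = true := by
    rcases chkSep i with h2 | h2 | h2
    · exact absurd (idx_injective (h2.trans (by decide : (0 : ℕ) = idx (some 0)))) h1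
    · exact absurd (idx_injective (h2.trans (by decide : (23 : ℕ) = idx none))) h0
    · exact h2
  obtain ⟨m, hmB, hmi⟩ := List.any_eq_true.1 hi
  have hm := chkB m hmB
  have h3 := ge_smul hm x i
  rw [h m hm, sgm_neg hmi] at h3
  linarith

theorem sqNorm_two {x : GolayPt → ℤ} (h : ∀ i, i ≠ none → i ≠ some 0 → x i = 0) :
    sqNorm x = x none ^ 2 + x (some 0) ^ 2 := by
  unfold sqNorm
  rw [Fintype.sum_option]
  congr 1
  refine Finset.sum_eq_single 0 ?_ ?_
  · intro i _ hi
    rw [h (some i) (by simp) (fun e => hi (Option.some_injective _ e))]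
    norm_num
  · intro h'
    exact absurd (Finset.mem_univ _) h'

/-- the image of `8 e_∞` is `8 e_∞` or `8 e_0` if it is fixed by `E` -/
theorem im_cases' {p : Spor.Co2} (h : ∀ m, inE m = true → toCo0 (ge m) • im p = im p) :
    im p = e8 none ∨ im p = e8 (some 0) := by
  have hz : ∀ i, i ≠ none → i ≠ some 0 → (im p : GolayPt → ℤ) i = 0 := fun i h0 h1 => im_zero' h h0 h1
  have e1 := sqNorm_two hz
  rw [norm_im] at e1
  have hu : ∀ i, i ≠ none → i ≠ some 0 → ((Spor.leechU : leechLattice) : GolayPt → ℤ) i = 0 := by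
    intro i h0 h1
    rw [leechU_apply, if_neg]
    rintro (h2 | h2)
    · exact h1 (idx_injective (h2.trans (by decide : (0 : ℕ) = idx (some 0))))
    · exact h0 (idx_injective (h2.trans (by decide : (23 : ℕ) = idx none)))
  have un : ((Spor.leechU : leechLattice) : GolayPt → ℤ) none = 4 := by rw [leechU_apply, if_pos]; decide
  have u0 : ((Spor.leechU : leechLattice) : GolayPt → ℤ) (some 0) = 4 := by rw [leechU_apply, if_pos]; decide
  have c1 : sqNorm ((im p - Spor.leechU : leechLattice) : GolayPt → ℤ) =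
      ((im p : GolayPt → ℤ) none - 4) ^ 2 + ((im p : GolayPt → ℤ) (some 0) - 4) ^ 2 := by
    rw [sqNorm_two]
    · show ((im p : GolayPt → ℤ) none - ((Spor.leechU : leechLattice) : GolayPt → ℤ) none) ^ 2 +
        ((im p : GolayPt → ℤ) (some 0) - ((Spor.leechU : leechLattice) : GolayPt → ℤ) (some 0)) ^ 2 = _
      rw [un, u0]
    · intro i h0 h1
      show (im p : GolayPt → ℤ) i - ((Spor.leechU : leechLattice) : GolayPt → ℤ) i = 0
      rw [hz i h0 h1, hu i h0 h1, sub_zero]
  have c2 : sqNorm ((e8 none - Spor.leechU : leechLattice) : GolayPt → ℤ) = 32 := by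
    rw [sqNorm_two]
    · show (((e8 none : leechLattice) : GolayPt → ℤ) none - ((Spor.leechU : leechLattice) : GolayPt → ℤ) none) ^ 2 +
        (((e8 none : leechLattice) : GolayPt → ℤ) (some 0) -
          ((Spor.leechU : leechLattice) : GolayPt → ℤ) (some 0)) ^ 2 = _
      rw [un, u0, e8_coe, Pi.single_eq_same, Pi.single_eq_of_ne (by simp)]
      norm_num
    · intro i h0 h1
      show ((e8 none : leechLattice) : GolayPt → ℤ) i - ((Spor.leechU : leechLattice) : GolayPt → ℤ) i = 0
      rw [hu i h0 h1, e8_coe, Pi.single_eq_of_ne h0, sub_zero]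
  have c3 := Cfsg.Agent.SporadicA.Co0Mono.sqNorm_smul (toCo0 p) (e8 none - Spor.leechU)
  have c4 : toCo0 p • (e8 none - Spor.leechU) = im p - Spor.leechU := by
    rw [smul_sub, toCo0_smul_leechU]
    rfl
  rw [c4, c1, c2] at c3
  have hab : (im p : GolayPt → ℤ) none + (im p : GolayPt → ℤ) (some 0) = 8 := by linarith
  have hm : (im p : GolayPt → ℤ) none * (im p : GolayPt → ℤ) (some 0) = 0 := by
    have : ((im p : GolayPt → ℤ) none + (im p : GolayPt → ℤ) (some 0)) ^ 2 = 64 := by rw [hab]; norm_num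
    linarith
  rcases mul_eq_zero.1 hm with h0 | h0
  · right
    apply Subtype.ext
    funext i
    rw [e8_coe]
    by_cases hi : i = some 0
    · subst hi
      rw [Pi.single_eq_same]
      linarith
    · rw [Pi.single_eq_of_ne hi]
      by_cases hi' : i = none
      · subst hi'; exact h0
      · exact hz i hi' hi
  · left
    apply Subtype.ext
    funext i
    rw [e8_coe]
    by_cases hi : i = none
    · subst hi
      rw [Pi.single_eq_same]
      linarith
    · rw [Pi.single_eq_of_ne hi]
      by_cases hi' : i = some 0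
      · subst hi'; exact h0
      · exact hz i hi hi'

theorem chkS : (okP sQ && Nat.blt sQ (2 ^ 120) && Nat.beq (pcomp sQ sQ) idP && Nat.beq (papp sQ 0) 23) = true := by
  decide +kernel

theorem im_cases {p : Spor.Co2} (h : ∀ m, inE m = true → p * ge m = ge m * p) :
    im p = e8 none ∨ im p = e8 (some 0) := im_cases' fun m hm => im_fix hm (h m hm)

/-- An element that maps `8 e_∞` to `8 e_∞` or `8 e_0` is monomial. -/
theorem exists_mo2_of_im {p : Spor.Co2} (h : im p = e8 none ∨ im p = e8 (some 0)) :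
    ∃ m Q, inE m = true ∧ okP Q = true ∧ Q < 2 ^ 120 ∧ p = mo2 m Q := by
  rcases h with h1 | h1
  · obtain ⟨m, Q, h2, h3, h4, -, -, h5⟩ := mono_of_fix h1
    exact ⟨m, Q, h2, h3, h4, h5⟩
  · have h0 := chkS
    simp only [Bool.and_eq_true, Nat.blt_eq, Nat.beq_eq] at h0
    obtain ⟨⟨⟨s1, s2⟩, s3⟩, s4⟩ := h0
    have hs : mo2 0 sQ * mo2 0 sQ = 1 := by
      rw [mo2_mul inE_zero inE_zero s1 s1, s3, pimg_zero (ok_iff.1 (ok_of_okP s1)).1, Nat.xor_self, mo2_one]
    have h2 : toCo0 (mo2 0 sQ * p) • e8 none = e8 none := by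
      rw [map_mul, mul_smul]
      have : toCo0 p • e8 none = e8 (some 0) := h1
      rw [this, toCo0_mo2 inE_zero s1]
      apply Subtype.ext
      funext j
      rw [mo_smul_e8 isCode_zero, e8_coe, Nat.zero_testBit, Pi.single_apply]
      have e1 : (el sQ : Equiv.Perm GolayPt) (some 0) = none := by
        apply idx_injective
        have : idx (permOf sQ (ok_iff.1 (ok_of_okP s1)).1 (some 0)) = papp sQ (idx (some 0)) := idx_permOf _ _ 
        rw [coe_el (ok_of_okP s1), this]
        show papp sQ 0 = 23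
        exact s4
      rw [e1]
      by_cases hj : j = none
      · subst hj; simp
      · rw [if_neg (Ne.symm hj), if_neg hj]
    obtain ⟨m, Q, h3, h4, h5, -, -, h6⟩ := mono_of_fix h2
    refine ⟨pimg sQ m, pcomp sQ Q, inE_pimg s1 h3, okP_pcomp s1 h4, pcomp_lt _ _, ?_⟩
    have h7 : p = mo2 0 sQ * (mo2 0 sQ * p) := by rw [← mul_assoc, hs, one_mul]
    rw [h7, h6, mo2_mul inE_zero h3 s1 h4, Nat.zero_xor]

/-- An element commuting with `E` is monomial. -/
theorem exists_mo2 {p : Spor.Co2} (h : ∀ m, inE m = true → p * ge m = ge m * p) :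
    ∃ m Q, inE m = true ∧ okP Q = true ∧ Q < 2 ^ 120 ∧ p = mo2 m Q := exists_mo2_of_im (im_cases h)

/-- the transposition of the points 0 and 23 -/
def tQ : ℕ := pack [23, 1, 2, 3, 4, 5, 6, 7, 8, 9, 10, 11, 12, 13, 14, 15, 16, 17, 18, 19, 20, 21, 22, 0]

theorem tQ_lt : tQ < 32 ^ 24 := by decide +kernel
theorem idP_lt : idP < 32 ^ 24 := by decide +kernel
theorem not_ok_tQ : ok tQ = false := by decide +kernel

theorem chkPts : (List.range 24).all (fun i => (List.range 24).all fun j =>
    Nat.beq i j || Nat.beq i 0 || Nat.beq i 23 || (B10.any fun m => m.testBit i != m.testBit j)) = true := by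
  decide +kernel

theorem chkTQ : ∀ i < 24, papp tQ i = if i = 0 then 23 else if i = 23 then 0 else i := by decide +kernel
theorem chkId : ∀ i < 24, papp idP i = i := by decide +kernel

/-- a permutation of the group fixing the 22 points is the identity -/
theorem eq_idP_of_fix {Q : ℕ} (hQ : okP Q = true) (hlt : Q < 2 ^ 120)
    (hfix : ∀ i, i < 24 → i ≠ 0 → i ≠ 23 → papp Q i = i) : Q = idP := by
  have h3 : (32 : ℕ) ^ 24 = 2 ^ 120 := by norm_num
  rcases (okP_iff.1 hQ).2 with ⟨a, b⟩ | ⟨a, b⟩
  · apply eq_of_papp 24 Q idP (by rw [h3]; exact hlt) idP_lt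
    intro i hi
    rw [chkId i hi]
    by_cases h0 : i = 0
    · subst h0; exact a
    · by_cases h1 : i = 23
      · subst h1; exact b
      · exact hfix i hi h0 h1
  · exfalso
    have : Q = tQ := by
      apply eq_of_papp 24 Q tQ (by rw [h3]; exact hlt) tQ_lt
      intro i hi
      rw [chkTQ i hi]
      by_cases h0 : i = 0
      · subst h0; exact a
      · by_cases h1 : i = 23
        · subst h1; exact b
        · rw [if_neg h0, if_neg h1]; exact hfix i hi h0 h1
    have h4 := ok_of_okP hQ
    rw [this, not_ok_tQ] at h4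
    exact absurd h4 (by decide)

/-- a permutation fixing all masks of `E` is the identity -/
theorem eq_idP {Q : ℕ} (hQ : okP Q = true) (hlt : Q < 2 ^ 120) (h : ∀ m, inE m = true → pimg Q m = m) : Q = idP := by
  have hp := (ok_iff.1 (ok_of_okP hQ)).1
  apply eq_idP_of_fix hQ hlt
  intro i hi h0 h23
  by_contra hne
  have hj : papp Q i < 24 := papp_lt hp hi
  have h1 := List.all_eq_true.1 (List.all_eq_true.1 chkPts i (List.mem_range.2 hi)) _ (List.mem_range.2 hj)
  rcases (Bool.or_eq_true _ _).mp h1 with h1 | h1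
  · rcases (Bool.or_eq_true _ _).mp h1 with h1 | h1
    · rcases (Bool.or_eq_true _ _).mp h1 with h1 | h1
      · exact hne (Nat.eq_of_beq_eq_true h1).symm
      · exact h0 (Nat.eq_of_beq_eq_true h1)
    · exact h23 (Nat.eq_of_beq_eq_true h1)
  · obtain ⟨m, hm, h2⟩ := List.any_eq_true.1 h1
    have h3 := testBit_pimg_papp hp m hi
    rw [h m (chkB m hm)] at h3
    rw [h3] at h2
    simp at h2

/-- **`C_K(E) = E`** -/
theorem exists_ge {p : Spor.Co2} (h : ∀ m, inE m = true → p * ge m = ge m * p) :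
    ∃ m, inE m = true ∧ p = ge m := by
  obtain ⟨m, Q, hm, hQ, hlt, rfl⟩ := exists_mo2 h
  have : Q = idP := by
    apply eq_idP hQ hlt
    intro n hn
    have h1 := h n hn
    rw [ge_def, mo2_conj_E hm hn hQ hlt] at h1
    have h2 := mul_right_cancel h1
    exact (mo2_inj (inE_pimg hQ hn) hn okP_idP okP_idP (by decide +kernel) (by decide +kernel) h2).1
  exact ⟨m, hm, by rw [this]; rfl⟩

end Cfsg.Agent.KFacts.Co2.Mono
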